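import Mathlib

/-! # Element orders and cycle types in alternating groups -/

namespace Cfsg.Agent.AltOrders

section CycleLcm

open Equiv.Perm

theorem exists_dvd_of_dvd_lcm {r : ℕ} (hr : r.Prime) {m : Multiset ℕ} (h : r ∣ m.lcm) :
    ∃ a ∈ m, r ∣ a := by
  induction m using Multiset.induction with
  | empty => simp at h; exact absurd h hr.ne_one
  | cons a t ih =>
    rw [Multiset.lcm_cons] at h
    rcases (Nat.Prime.dvd_mul hr).1 (h.trans (Nat.lcm_dvd_mul a t.lcm)) with h' | h'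
    · exact ⟨a, Multiset.mem_cons_self a t, h'⟩
    · obtain ⟨b, hb, hb'⟩ := ih h'
      exact ⟨b, Multiset.mem_cons_of_mem hb, hb'⟩

theorem add_le_sum {m : Multiset ℕ} {a b : ℕ} (ha : a ∈ m) (hb : b ∈ m) (hab : a ≠ b) :
    a + b ≤ m.sum := by
  obtain ⟨t, rfl⟩ := Multiset.exists_cons_of_mem ha
  rw [Multiset.sum_cons]
  exact Nat.add_le_add_left (Multiset.le_sum_of_mem ((Multiset.mem_cons.1 hb).resolve_left hab.symm)) a

theorem even_of_all_odd {m : Multiset ℕ} (h : ∀ x ∈ m, Odd x) : Even (m.sum + Multiset.card m) := by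
  induction m using Multiset.induction with
  | empty => simp
  | cons a t ih =>
    rw [Multiset.sum_cons, Multiset.card_cons]
    have ha := h a (Multiset.mem_cons_self a t)
    rw [show a + t.sum + (Multiset.card t + 1) = a + 1 + (t.sum + Multiset.card t) by ring]
    exact (ha.add_odd odd_one).add (ih fun x hx => h x (Multiset.mem_cons_of_mem hx))

theorem exists_second_even {m : Multiset ℕ} (h : Even (m.sum + Multiset.card m)) {a : ℕ} {t : Multiset ℕ}
    (hm : m = a ::ₘ t) (ha : Even a) : ∃ b ∈ t, Even b := by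
  by_contra hne
  push Not at hne
  have ht := even_of_all_odd (m := t) fun x hx => Nat.not_even_iff_odd.1 (hne x hx)
  rw [hm, Multiset.sum_cons, Multiset.card_cons,
    show a + t.sum + (Multiset.card t + 1) = t.sum + Multiset.card t + (a + 1) by ring] at h
  exact Nat.not_even_iff_odd.2 (ha.add_one) ((Nat.even_add.1 h).1 ht)

theorem mem_range_iff {n k : ℕ} :
    k ∈ Set.range (orderOf : alternatingGroup (Fin n) → ℕ) ↔
      ∃ m : Multiset ℕ, m.sum ≤ n ∧ (∀ a ∈ m, 2 ≤ a) ∧ Even (m.sum + Multiset.card m) ∧ m.lcm = k := by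
  constructor
  · rintro ⟨g, rfl⟩
    refine ⟨(g : Equiv.Perm (Fin n)).cycleType, ?_, fun a ha => two_le_of_mem_cycleType ha, ?_, ?_⟩
    · simpa using sum_cycleType_le (g : Equiv.Perm (Fin n))
    · have h := Equiv.Perm.mem_alternatingGroup.1 g.2
      rw [sign_of_cycleType, neg_one_pow_eq_one_iff_even (by decide)] at h
      exact h
    · rw [lcm_cycleType, Subgroup.orderOf_coe]
  · rintro ⟨m, hsum, h2, hev, rfl⟩
    obtain ⟨g, hg⟩ := (exists_with_cycleType_iff (Fin n) (m := m)).2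
      ⟨by simpa using hsum, h2⟩
    have hga : g ∈ alternatingGroup (Fin n) := by
      rw [Equiv.Perm.mem_alternatingGroup, sign_of_cycleType, hg, hev.neg_one_pow]
    exact ⟨⟨g, hga⟩, by rw [← hg, lcm_cycleType, Subgroup.orderOf_mk]⟩

end CycleLcm

section SmallLists

open Equiv.Perm

theorem sum_cycleType_le {n : ℕ} (σ : Equiv.Perm (Fin n)) : σ.cycleType.sum ≤ n := by
  rw [sum_cycleType]
  simpa using σ.support.card_le_univ

theorem even_cycleType {n : ℕ} (σ : alternatingGroup (Fin n)) :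
    Even ((σ : Equiv.Perm (Fin n)).cycleType.sum + Multiset.card (σ : Equiv.Perm (Fin n)).cycleType) := by
  have h : sign (σ : Equiv.Perm (Fin n)) = 1 := mem_alternatingGroup.1 σ.2
  rw [sign_of_cycleType] at h
  exact (neg_one_pow_eq_one_iff_even (by decide : (-1 : ℤˣ) ≠ 1)).1 h

theorem orderOf_eq_lcm {n : ℕ} (σ : alternatingGroup (Fin n)) :
    orderOf σ = (σ : Equiv.Perm (Fin n)).cycleType.lcm := by
  rw [lcm_cycleType, Subgroup.orderOf_coe]

theorem exists_of_cycleType {n : ℕ} (m : Multiset ℕ) (h2 : ∀ x ∈ m, 2 ≤ x) (hs : m.sum ≤ n)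
    (hev : Even (m.sum + Multiset.card m)) : ∃ σ : alternatingGroup (Fin n), orderOf σ = m.lcm := by
  obtain ⟨g, hg⟩ := (exists_with_cycleType_iff (Fin n) (m := m)).2 ⟨by simpa using hs, h2⟩
  have hmem : g ∈ alternatingGroup (Fin n) := by
    rw [mem_alternatingGroup, sign_of_cycleType, hg]
    exact hev.neg_one_pow
  exact ⟨⟨g, hmem⟩, by rw [orderOf_eq_lcm]; exact congrArg Multiset.lcm hg⟩

theorem exists_dvd_mem {n r : ℕ} (hr : r.Prime) (σ : Equiv.Perm (Fin n)) (hd : r ∣ orderOf σ) :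
    ∃ c ∈ σ.cycleType, r ∣ c := by
  rw [← lcm_cycleType] at hd
  revert hd
  induction σ.cycleType using Multiset.induction_on with
  | empty => intro hd; exact absurd (Nat.dvd_one.1 hd) hr.one_lt.ne'
  | cons a s ih =>
    intro hd
    rw [Multiset.lcm_cons] at hd
    rcases hr.dvd_mul.1 (hd.trans (lcm_dvd (dvd_mul_right a s.lcm) (dvd_mul_left s.lcm a))) with h | h
    · exact ⟨a, Multiset.mem_cons_self _ _, h⟩
    · obtain ⟨c, hc, hcd⟩ := ih h
      exact ⟨c, Multiset.mem_cons_of_mem hc, hcd⟩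

/-- Nondecreasing lists with entries in `[lo, lo + fuel)` of sum at most `b`. -/
def smallLists : ℕ → ℕ → ℕ → List (List ℕ)
  | 0, _, _ => [[]]
  | fuel + 1, lo, b =>
    [] :: ((List.range (b + 1 - lo)).flatMap fun i => (smallLists fuel (lo + i) (b - (lo + i))).map fun l => (lo + i) :: l)

theorem mem_smallLists : ∀ (fuel lo b : ℕ) (l : List ℕ), l.Pairwise (· ≤ ·) → (∀ x ∈ l, lo ≤ x) →
    l.sum ≤ b → l.length ≤ fuel → l ∈ smallLists fuel lo b
  | 0, lo, b, l, _, _, _, hl => by
    rw [List.length_eq_zero_iff.1 (Nat.le_zero.1 hl)]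
    exact List.mem_singleton_self _
  | fuel + 1, lo, b, [], _, _, _, _ => List.mem_cons_self
  | fuel + 1, lo, b, a :: t, hp, hlo, hsum, hl => by
    rw [List.sum_cons] at hsum
    have ha := hlo a (by simp)
    refine List.mem_cons_of_mem _ (List.mem_flatMap.2 ⟨a - lo, List.mem_range.2 (by omega), ?_⟩)
    rw [show lo + (a - lo) = a by omega]
    refine List.mem_map.2 ⟨t, mem_smallLists fuel a (b - a) t hp.of_cons
      (fun x hx => (List.pairwise_cons.1 hp).1 x hx) (by omega) (by simpa using hl), rfl⟩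

theorem mem_smallLists_of_multiset {b fuel : ℕ} (m : Multiset ℕ) (h2 : ∀ x ∈ m, 2 ≤ x) (hs : m.sum ≤ b)
    (hf : b ≤ 2 * fuel + 1) : ∃ l ∈ smallLists fuel 2 b, (l : Multiset ℕ) = m := by
  refine ⟨m.sort (· ≤ ·), mem_smallLists fuel 2 b _ (Multiset.pairwise_sort _ _)
    (fun x hx => h2 x ((Multiset.mem_sort _).1 hx)) ?_ ?_, Multiset.sort_eq _ _⟩
  · rw [← Multiset.sum_coe, Multiset.sort_eq]; exact hs
  · rw [Multiset.length_sort]
    have h : Multiset.card m • 2 ≤ m.sum := Multiset.card_nsmul_le_sum h2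
    rw [smul_eq_mul] at h
    omega

end SmallLists

end Cfsg.Agent.AltOrders
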